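import Mathlib.AlgebraicGeometry.QuasiAffine
import Mathlib.AlgebraicGeometry.Morphisms.ClosedImmersion
import Mathlib.AlgebraicGeometry.Properties

/-!
Quasi-affineness only depends on the scheme up to homeomorphic closed immersions.
-/

set_option autoImplicit false
set_option linter.style.haveILetI false
set_option maxHeartbeats 400000

universe u

open CategoryTheory AlgebraicGeometry TopologicalSpace Opposite

namespace Groth.Agent.QAHomeo5

/-- Powers of a section congruent to `r` modulo nilpotents extend across `D(r)`. -/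
theorem exists_extend_pow {A S : Type u} [CommRing A] [CommRing S] [Algebra A S] (r : A) [IsLocalization.Away r S]
    (R : S) (h : IsNilpotent (R - algebraMap A S r)) :
    ∃ N, ∀ n ≥ N, ∃ g : A, algebraMap A S g = R ^ n ∧ IsNilpotent (g - r ^ n) := by
  classical
  obtain ⟨v, hv⟩ := (IsLocalization.Away.algebraMap_isUnit (S := S) r).exists_right_inv
  let f := (R - algebraMap A S r) * v
  have hf : IsNilpotent f := Commute.isNilpotent_mul_right (Commute.all _ _) h
  have hR : R = algebraMap A S r * (f + 1) := by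
    linear_combination -(R - algebraMap A S r) * hv
  obtain ⟨⟨j, ⟨_, m, rfl⟩⟩, hj⟩ := IsLocalization.surj (Submonoid.powers r) f
  let e := r * j
  have he : algebraMap A S e = algebraMap A S r ^ (m + 1) * f := by
    rw [map_mul, ← hj, map_pow]; ring
  obtain ⟨E, hE⟩ := hf
  have hen : IsNilpotent e := by
    obtain ⟨⟨_, s, rfl⟩, hs⟩ := (IsLocalization.map_eq_zero_iff (Submonoid.powers r) S (e ^ E)).1
      (by rw [map_pow, he, mul_pow, hE, mul_zero])
    refine ⟨s + E, ?_⟩
    show e ^ (s + E) = 0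
    have hs' : r ^ s * e ^ E = 0 := hs
    rw [pow_add, show e ^ s = j ^ s * r ^ s by rw [← mul_pow, mul_comm j r], mul_assoc, hs', mul_zero]
  refine ⟨E * (m + 1), fun n hn => ⟨∑ i ∈ Finset.range (E + 1), (n.choose i : A) * r ^ (n - i * (m + 1)) * e ^ i,
    ?_, ?_⟩⟩
  · have hEn : E ≤ n := le_trans (Nat.le_mul_of_pos_right E (by omega)) hn
    rw [hR, mul_pow, add_pow, Finset.mul_sum, map_sum]
    refine Eq.trans (Finset.sum_congr rfl fun i hi => ?_)
      (Finset.sum_subset (Finset.range_mono (Nat.succ_le_succ hEn)) fun i _ hi => ?_)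
    · have hi' : i * (m + 1) ≤ n :=
        le_trans (Nat.mul_le_mul_right _ (Nat.lt_succ_iff.1 (Finset.mem_range.1 hi))) hn
      rw [map_mul, map_mul, map_natCast, map_pow, map_pow, he, mul_pow, ← pow_mul, one_pow, mul_one]
      rw [mul_comm (m + 1) i]
      conv_rhs => rw [← Nat.sub_add_cancel hi', pow_add, Nat.sub_add_cancel hi']
      ring
    · have hEi : E ≤ i := by rw [Finset.mem_range] at hi; omega
      rw [show f ^ i = f ^ E * f ^ (i - E) by rw [← pow_add]; congr 1; omega, hE]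
      ring
  · rw [Finset.sum_range_succ']
    simp only [Nat.choose_zero_right, Nat.cast_one, zero_mul, Nat.sub_zero, one_mul, pow_zero, mul_one,
      add_sub_cancel_right]
    refine mem_nilradical.1 (sum_mem fun i _ => Ideal.mul_mem_left _ _ ?_)
    exact pow_succ e i ▸ Ideal.mul_mem_left _ _ (mem_nilradical.2 hen)

variable {X : Scheme.{u}}

/-- Restriction of sections. -/
noncomputable abbrev res {U V : X.Opens} (h : V ≤ U) : Γ(X, U) →+* Γ(X, V) := (X.presheaf.map (homOfLE h).op).hom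

theorem res_res {U V W : X.Opens} (h : V ≤ U) (h' : W ≤ V) (a : Γ(X, U)) : res h' (res h a) = res (h'.trans h) a := by
  rw [← CommRingCat.comp_apply, ← Functor.map_comp]
  rfl

theorem basicOpen_res' {U V : X.Opens} (h : V ≤ U) (a : Γ(X, U)) : X.basicOpen (res h a) = V ⊓ X.basicOpen a :=
  Scheme.basicOpen_res _ _ _

theorem isNilpotent_of_basicOpen_eq_bot {U : X.Opens} (hU : IsAffineOpen U) (a : Γ(X, U))
    (h : X.basicOpen a = ⊥) : IsNilpotent a := by
  rw [← PrimeSpectrum.basicOpen_eq_bot_iff, ← hU.fromSpec_preimage_basicOpen a, h]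
  rfl

theorem basicOpen_eq_of_isNilpotent_sub {U : X.Opens} (a b : Γ(X, U)) (h : IsNilpotent (a - b)) :
    X.basicOpen a = X.basicOpen b := by
  have key : ∀ c d : Γ(X, U), IsNilpotent (c - d) → X.basicOpen d ≤ X.basicOpen c := by
    intro c d hcd x hx
    obtain ⟨hxU, hd⟩ := (X.mem_basicOpen'' d x).1 hx
    rw [X.mem_basicOpen'' c x]
    refine ⟨hxU, ?_⟩
    have := (hcd.map (X.presheaf.germ U x hxU).hom).isUnit_add_left_of_commute hd (Commute.all _ _)
    rwa [← map_add, add_sub_cancel] at this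
  exact le_antisymm (key b a (by rw [← neg_sub]; exact h.neg)) (key a b h)

theorem pow_eq_pow_of_mul_sub_eq_zero {A : Type u} [CommRing A] (x y : A) (a : ℕ) (hx : x ^ a * (x - y) = 0)
    (hy : y ^ a * (x - y) = 0) (M : ℕ) (hM : 2 * a < M) : x ^ M = y ^ M := by
  rw [← sub_eq_zero, ← geom_sum₂_mul, Finset.sum_mul]
  refine Finset.sum_eq_zero fun i hi => ?_
  rw [Finset.mem_range] at hi
  rcases le_or_gt a i with hai | hai
  · rw [show x ^ i = x ^ (i - a) * x ^ a by rw [← pow_add]; congr 1; omega]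
    linear_combination (x ^ (i - a) * y ^ (M - 1 - i)) * hx
  · rw [show y ^ (M - 1 - i) = y ^ (M - 1 - i - a) * y ^ a by rw [← pow_add]; congr 1; omega]
    linear_combination (x ^ i * y ^ (M - 1 - i - a)) * hy

/-- A basic open of a global section lifts along a homeomorphic closed immersion. -/
theorem exists_lift_basicOpen {Z : Scheme.{u}} (i : Z ⟶ X) [IsClosedImmersion i] [Surjective i] [CompactSpace X]
    [QuasiSeparatedSpace X] (r₀ : Γ(Z, ⊤)) {V : X.Opens} (hV : IsAffineOpen V) (hle : Z.basicOpen r₀ ≤ i ⁻¹ᵁ V) :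
    ∃ F : Γ(X, ⊤), IsAffineOpen (X.basicOpen F) ∧ i ⁻¹ᵁ X.basicOpen F = Z.basicOpen r₀ := by
  classical
  have hinj : ∀ {O O' : X.Opens}, i ⁻¹ᵁ O = i ⁻¹ᵁ O' → O = O' := fun {O O'} h => by
    ext x
    obtain ⟨z, rfl⟩ := i.surjective x
    exact Iff.of_eq (congrArg (fun T : Z.Opens => z ∈ T) h)
  have hlift : ∀ U : X.affineOpens, ∃ r : Γ(X, U.1),
      (i.app U.1).hom r = (Z.presheaf.map (homOfLE le_top : i ⁻¹ᵁ U.1 ⟶ ⊤).op).hom r₀ :=
    fun U => i.app_surjective U.1 U.2 _
  choose r hr using hlift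
  have hpre : ∀ U : X.affineOpens, i ⁻¹ᵁ X.basicOpen (r U) = i ⁻¹ᵁ U.1 ⊓ Z.basicOpen r₀ := fun U => by
    rw [Scheme.preimage_basicOpen]
    erw [hr U]
    exact Scheme.basicOpen_res _ _ _
  let W := X.basicOpen (r ⟨V, hV⟩)
  have hW : i ⁻¹ᵁ W = Z.basicOpen r₀ := by rw [hpre]; exact inf_eq_right.2 hle
  have hD : ∀ U : X.affineOpens, X.basicOpen (r U) = U.1 ⊓ W := fun U => hinj (by
    rw [hpre]; exact (congrArg (i ⁻¹ᵁ U.1 ⊓ ·) hW).symm)
  let R : Γ(X, W) := res (X.basicOpen_le _) (r ⟨V, hV⟩)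
  have hloc : ∀ U : X.affineOpens, ∃ N, ∀ n ≥ N, ∃ g : Γ(X, U.1),
      (∀ h : X.basicOpen (r U) ≤ U.1, res h g = res ((hD U).le.trans inf_le_right) (R ^ n)) ∧
        X.basicOpen g ⊓ U.1 = X.basicOpen (r U ^ n) := by
    intro U
    have hle' : X.basicOpen (r U) ≤ W := (hD U).le.trans inf_le_right
    letI : Algebra Γ(X, U.1) Γ(X, X.basicOpen (r U)) := (res (X.basicOpen_le (r U))).toAlgebra
    haveI : IsLocalization.Away (r U) Γ(X, X.basicOpen (r U)) := U.2.isLocalization_basicOpen (r U)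
    have hnil : IsNilpotent (res hle' R - algebraMap Γ(X, U.1) Γ(X, X.basicOpen (r U)) (r U)) := by
      refine isNilpotent_of_basicOpen_eq_bot (U.2.basicOpen (r U)) _ (hinj ?_)
      rw [Scheme.preimage_basicOpen, map_sub]
      have hsame : ∀ (U' : X.affineOpens) (h : X.basicOpen (r U) ≤ U'.1),
          (i.app (X.basicOpen (r U))).hom (res h (r U')) = (Z.presheaf.map (homOfLE le_top).op).hom r₀ := fun U' h => by
        have hn := ConcreteCategory.congr_hom (i.naturality (homOfLE h).op) (r U')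
        refine hn.trans ?_
        show (Z.presheaf.map _).hom ((i.app U'.1).hom (r U')) = _
        rw [hr U', ← CommRingCat.comp_apply, ← Functor.map_comp]
        rfl
      rw [show res hle' R = res (hle'.trans (X.basicOpen_le _)) (r ⟨V, hV⟩) from res_res _ _ _]
      rw [hsame ⟨V, hV⟩ _, RingHom.algebraMap_toAlgebra, hsame U _, sub_self, Scheme.basicOpen_zero]
      rfl
    obtain ⟨N, hN⟩ := exists_extend_pow (r U) (res hle' R) hnil
    refine ⟨N, fun n hn => ?_⟩
    obtain ⟨g, hg, hgn⟩ := hN n hn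
    exact ⟨g, fun h => hg.trans (map_pow _ _ _).symm, by
      rw [basicOpen_eq_of_isNilpotent_sub _ _ hgn]; exact inf_eq_left.2 (X.basicOpen_le _)⟩
  obtain ⟨s, hs, hcov⟩ := isCompact_iff_finite_and_eq_biUnion_affineOpens.1
    (show IsCompact ((⊤ : X.Opens) : Set X) from isCompact_univ)
  haveI := hs.to_subtype
  haveI := Fintype.ofFinite s
  choose N hN using fun U : s => hloc U.1
  let n := Finset.univ.sup N + 1
  choose g hg hgD using fun U : s => hN U n ((Finset.le_sup (Finset.mem_univ U)).trans (Nat.le_succ _))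
  have hgD' : ∀ U : s, X.basicOpen (g U) = U.1.1 ⊓ W := fun U => by
    rw [← hD, ← inf_eq_left.2 (X.basicOpen_le (g U)), hgD, X.basicOpen_pow _ (Nat.succ_pos _)]
  have hov : ∀ p : s × s, ∃ a, (res inf_le_left (g p.1) : Γ(X, p.1.1.1 ⊓ p.2.1.1)) ^ a *
      (res inf_le_left (g p.1) - res inf_le_right (g p.2)) = 0 ∧
      (res inf_le_right (g p.2) : Γ(X, p.1.1.1 ⊓ p.2.1.1)) ^ a *
      (res inf_le_left (g p.1) - res inf_le_right (g p.2)) = 0 := by
    intro p
    let O := p.1.1.1 ⊓ p.2.1.1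
    have hc : IsCompact (O : Set X) := QuasiSeparatedSpace.inter_isCompact _ _ p.1.1.1.2 p.1.1.2.isCompact
      p.2.1.1.2 p.2.1.2.isCompact
    let x : Γ(X, O) := res inf_le_left (g p.1)
    let y : Γ(X, O) := res inf_le_right (g p.2)
    have hx : X.basicOpen x = O ⊓ W := by
      rw [basicOpen_res', hgD', ← inf_assoc, inf_eq_left.2 (show O ≤ p.1.1.1 from inf_le_left)]
    have hy : X.basicOpen y = O ⊓ W := by
      rw [basicOpen_res', hgD', ← inf_assoc, inf_eq_left.2 (show O ≤ p.2.1.1 from inf_le_right)]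
    have hres : ∀ (O' : X.Opens) (h : O' ≤ O), O' ≤ W → res h (x - y) = 0 := by
      intro O' h hW'
      rw [map_sub, sub_eq_zero, res_res, res_res]
      have h1 : O' ≤ X.basicOpen (r p.1.1) := (le_inf (h.trans inf_le_left) hW').trans (hD _).ge
      have h2 : O' ≤ X.basicOpen (r p.2.1) := (le_inf (h.trans inf_le_right) hW').trans (hD _).ge
      rw [← res_res (X.basicOpen_le (r p.1.1)) h1, ← res_res (X.basicOpen_le (r p.2.1)) h2, hg, hg, res_res, res_res]
    obtain ⟨a, ha⟩ := exists_pow_mul_eq_zero_of_res_basicOpen_eq_zero_of_isCompact X hc (x - y) x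
      (hres _ (X.basicOpen_le _) (hx.le.trans inf_le_right))
    obtain ⟨b, hb⟩ := exists_pow_mul_eq_zero_of_res_basicOpen_eq_zero_of_isCompact X hc (x - y) y
      (hres _ (X.basicOpen_le _) (hy.le.trans inf_le_right))
    exact ⟨a + b, by rw [pow_add, mul_right_comm, ha, zero_mul], by rw [pow_add, mul_assoc, hb, mul_zero]⟩
  choose a ha1 ha2 using hov
  let M := 2 * Finset.univ.sup a + 1
  obtain ⟨F, hF, -⟩ := X.sheaf.existsUnique_gluing' (fun U : s => U.1.1) ⊤ (fun _ => homOfLE le_top)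
    (hcov.le.trans (iSup₂_le fun U hU => le_iSup (fun U : s => (U.1.1 : X.Opens)) ⟨U, hU⟩))
    (fun U => g U ^ M) (fun U U' => by
      show res inf_le_left (g U ^ M) = res inf_le_right (g U' ^ M)
      rw [map_pow, map_pow]
      exact pow_eq_pow_of_mul_sub_eq_zero _ _ _ (ha1 (U, U')) (ha2 (U, U')) _
        (Nat.lt_succ_of_le (Nat.mul_le_mul_left 2 (Finset.le_sup (Finset.mem_univ (U, U'))))))
  have hbF : X.basicOpen F = W := by
    have hFU : ∀ U : s, U.1.1 ⊓ X.basicOpen F = U.1.1 ⊓ W := fun U => by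
      rw [← hgD', ← X.basicOpen_pow (g U) (n := M) (Nat.succ_pos _), ← hF U]
      exact (Scheme.basicOpen_res _ _ _).symm
    ext x
    obtain ⟨U, hU⟩ : ∃ U : s, x ∈ U.1.1 := by
      obtain ⟨U, hU, hx⟩ : ∃ U ∈ s, x ∈ (U.1 : X.Opens) := by
        simpa using hcov.le (Set.mem_univ x)
      exact ⟨⟨U, hU⟩, hx⟩
    exact ⟨fun h => ((hFU U).le ⟨hU, h⟩).2, fun h => ((hFU U).ge ⟨hU, h⟩).2⟩
  exact ⟨F, hbF ▸ hV.basicOpen _, hbF ▸ hW⟩

/-- Quasi-affineness along a surjective closed immersion. -/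
theorem isQuasiAffine_iff {Z : Scheme.{u}} (i : Z ⟶ X) [IsClosedImmersion i] (hi : IsHomeomorph i.base) :
    X.IsQuasiAffine ↔ Z.IsQuasiAffine := by
  haveI : Surjective i := ⟨hi.surjective⟩
  refine ⟨fun h => ?_, fun h => ?_⟩
  · haveI := (hi.homeomorph i.base).symm.compactSpace
    exact Scheme.IsQuasiAffine.of_isImmersion i
  · haveI := (hi.homeomorph i.base).compactSpace
    haveI : QuasiSeparatedSpace X := (hi.homeomorph i.base).symm.isOpenEmbedding.quasiSeparatedSpace
    refine Scheme.IsQuasiAffine.of_forall_exists_mem_basicOpen _ fun x => ?_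
    obtain ⟨z, rfl⟩ := i.surjective x
    obtain ⟨_, ⟨V, hV, rfl⟩, hzV, -⟩ := X.isBasis_affineOpens.exists_subset_of_mem_open (Set.mem_univ (i z)) isOpen_univ
    obtain ⟨_, ⟨_, ⟨r₀, hr₀, rfl⟩, rfl⟩, hzr, hrV⟩ :=
      (Scheme.IsQuasiAffine.isBasis_basicOpen Z).exists_subset_of_mem_open (show z ∈ i ⁻¹ᵁ V from hzV) (i ⁻¹ᵁ V).2
    obtain ⟨F, hF, hFpre⟩ := exists_lift_basicOpen i r₀ hV hrV
    exact ⟨F, hF, hFpre.ge hzr⟩

end Groth.Agent.QAHomeo5
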